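import Groth.Agent.S4857
import Groth.Agent.Lib.HLV27.Chevalley
import Groth.Agent.Lib.Compl.Dim
import Groth.Agent.Lib.Descend.BaseChangeAt
import Groth.Agent.Lib.FlatH4.PullFlat
import Groth.Agent.Lib.SchDom.FlatStage
import Groth.Agent.Lib.FlatDvr5.Complete
import Mathlib.AlgebraicGeometry.Morphisms.SchemeTheoreticallyDominant
import Mathlib.AlgebraicGeometry.Morphisms.Proper

/-!
# Descent of flatness along a proper scheme-theoretically dominant morphism, Noetherian case
-/

set_option autoImplicit false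
set_option backward.isDefEq.respectTransparency false
set_option linter.style.haveILetI false
set_option maxHeartbeats 1600000

universe u

open CategoryTheory CategoryTheory.Limits AlgebraicGeometry IsLocalRing

namespace Groth.Agent.FlatProper5

/-- The composite of the spectrum of a local ring with a map to an affine scheme. -/
theorem fromSpecStalk_comp_toSpec {Z : Scheme.{u}} {A : CommRingCat.{u}} (s : Z ⟶ Spec A) (z : Z) :
    Z.fromSpecStalk z ≫ s =
      Spec.map ((Scheme.ΓSpecIso A).inv ≫ s.appTop ≫ Z.presheaf.germ ⊤ z trivial) := by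
  have e : s = Z.toSpecΓ ≫ Spec.map ((Scheme.ΓSpecIso A).inv ≫ s.appTop) := by
    rw [Spec.map_comp, ← Scheme.toSpecΓ_naturality_assoc, toSpecΓ_SpecMap_ΓSpecIso_inv, Category.comp_id]
  conv_lhs => rw [e]
  rw [← Category.assoc, Scheme.fromSpecStalk_toSpecΓ, ← Spec.map_comp, Category.assoc]

/-- Flatness of a pullback module at a point, transported along a map of the base. -/
theorem isFlatOverAt_pullback_of_eq {X Y Y' Y'' : Scheme.{u}} (f : X ⟶ Y) (F : X.Modules) [Coh.IsQCoh F]
    (g : Y' ⟶ Y) (v : Y'' ⟶ Y') (k : Y'' ⟶ Y) (hk : v ≫ g = k) (x : X)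
    (h : ∀ x' : ↥(pullback f g), pullback.fst f g x' = x →
      FlatMod.IsFlatOverAt (pullback.snd f g) ((Scheme.Modules.pullback (pullback.fst f g)).obj F) x')
    (w : ↥(pullback f k)) (hw : pullback.fst f k w = x) :
    FlatMod.IsFlatOverAt (pullback.snd f k) ((Scheme.Modules.pullback (pullback.fst f k)).obj F) w := by
  subst hk
  let m : pullback f (v ≫ g) ⟶ pullback f g :=
    pullback.lift (pullback.fst _ _) (pullback.snd _ _ ≫ v) (by rw [Category.assoc, pullback.condition])
  have hsq : IsPullback m (pullback.snd f (v ≫ g)) (pullback.snd f g) v := by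
    refine IsPullback.of_right ?_ (pullback.lift_snd _ _ _) (IsPullback.of_hasPullback f g)
    rw [pullback.lift_fst]
    exact IsPullback.of_hasPullback f (v ≫ g)
  haveI := M1.isQCoh_pullback (pullback.fst f g) (M := F) inferInstance
  have hm : pullback.fst f g (m w) = x := by
    rw [← Scheme.Hom.comp_apply, pullback.lift_fst]
    exact hw
  have h1 := FlatH4.isFlatOverAt_baseChange hsq ((Scheme.Modules.pullback (pullback.fst f g)).obj F) w (h _ hm)
  refine SchDom.isFlatOverAt_of_iso _ ?_ w h1
  exact (Scheme.Modules.pullbackComp m (pullback.fst f g)).app F ≪≫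
    (Scheme.Modules.pullbackCongr (pullback.lift_fst _ _ _)).app F

/-- An element with germs in all powers of the maximal ideals along the closed fibre of a proper
scheme-theoretically dominant scheme is zero. -/
theorem eq_zero_of_forall_mem_pow {C : CommRingCat.{u}} [IsNoetherianRing C] [IsLocalRing C] {Z : Scheme.{u}}
    (s : Z ⟶ Spec C) [IsProper s] [IsSchemeTheoreticallyDominant s] (c : C)
    (h : ∀ z : Z, s z = closedPoint C → ∀ n : ℕ,
      Z.presheaf.germ ⊤ z trivial (s.appTop ((Scheme.ΓSpecIso C).inv c)) ∈ maximalIdeal (Z.presheaf.stalk z) ^ n) :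
    c = 0 := by
  haveI : IsLocallyNoetherian Z := LocallyOfFiniteType.isLocallyNoetherian s
  set t := s.appTop ((Scheme.ΓSpecIso C).inv c) with ht
  let G : Set Z := {z | Z.presheaf.germ ⊤ z trivial t = 0}
  have hGopen : IsOpen G := by
    refine isOpen_iff_forall_mem_open.2 fun z hz => ?_
    have hz' : Z.presheaf.germ ⊤ z trivial t = Z.presheaf.germ ⊤ z trivial 0 := by rw [map_zero]; exact hz
    obtain ⟨W, hzW, iU, iV, e⟩ := Z.presheaf.germ_eq (U := ⊤) (V := ⊤) z trivial trivial t 0 hz'
    rw [map_zero] at e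
    refine ⟨W, fun w hw => ?_, W.2, hzW⟩
    show Z.presheaf.germ ⊤ w trivial t = 0
    rw [← Z.presheaf.germ_res_apply iU w hw, e, map_zero]
  have hfib : ∀ z : Z, s z = closedPoint C → z ∈ G := fun z hz => by
    show Z.presheaf.germ ⊤ z trivial t = 0
    rw [← Ideal.mem_bot, ← Ideal.iInf_pow_eq_bot_of_isLocalRing
      (maximalIdeal (Z.presheaf.stalk z)) (maximalIdeal.isMaximal _).ne_top, Submodule.mem_iInf]
    exact h z hz
  have hall : ∀ z : Z, z ∈ G := by
    intro z
    by_contra hz
    have hcl : IsClosed (s '' Gᶜ) := s.isClosedMap _ hGopen.isClosed_compl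
    have hmem : closedPoint C ∈ s '' Gᶜ :=
      (IsLocalRing.specializes_closedPoint (s z)).mem_closed hcl ⟨z, hz, rfl⟩
    obtain ⟨w, hw, hws⟩ := hmem
    exact hw (hfib w hws)
  have ht0 : t = 0 := by
    refine TopCat.Presheaf.section_ext Z.sheaf ⊤ t 0 fun z hz => ?_
    rw [map_zero]
    exact hall z
  have hinj : Function.Injective s.appTop := s.app_injective ⊤
  have := hinj (ht0.trans (map_zero _).symm)
  exact (ConcreteCategory.bijective_of_isIso (Scheme.ΓSpecIso C).inv).1 (this.trans (map_zero _).symm)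

/-- Descent of flatness along a proper scheme-theoretically dominant morphism. -/
theorem isFlatOverAt_of_noetherian {X Y Y' : Scheme.{u}} [IsLocallyNoetherian Y] (f : X ⟶ Y)
    [LocallyOfFiniteType f] (F : X.Modules) (hF : Coh.IsCoh F) (x : X) (g : Y' ⟶ Y) [IsProper g]
    [IsSchemeTheoreticallyDominant g]
    (hflat : ∀ x' : ↥(pullback f g), pullback.fst f g x' = x →
      FlatMod.IsFlatOverAt (pullback.snd f g) ((Scheme.Modules.pullback (pullback.fst f g)).obj F) x') :
    FlatMod.IsFlatOverAt f F x := by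
  classical
  haveI : Coh.IsQCoh F := hF.1
  let A : Type u := Y.presheaf.stalk (f x)
  let C : CommRingCat.{u} := CommRingCat.of (AdicCompletion (maximalIdeal A) A)
  haveI : IsNoetherianRing C := Compl.isNoetherianRing_maximalIdeal_adicCompletion A
  haveI : IsLocalRing C := inferInstanceAs (IsLocalRing (AdicCompletion (maximalIdeal A) A))
  haveI : IsAdicComplete (maximalIdeal C) C :=
    inferInstanceAs (IsAdicComplete (maximalIdeal (AdicCompletion (maximalIdeal A) A)) (AdicCompletion (maximalIdeal A) A))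
  let ι : Y.presheaf.stalk (f x) ⟶ C := CommRingCat.ofHom (algebraMap A (AdicCompletion (maximalIdeal A) A))
  let hC : Spec C ⟶ Y := Spec.map ι ≫ Y.fromSpecStalk (f x)
  haveI : Flat (Spec.map ι) := by
    rw [Flat.SpecMap_iff]
    exact (RingHom.flat_algebraMap_iff (R := A) (S := AdicCompletion (maximalIdeal A) A)).2 inferInstance
  haveI : Flat (Y.fromSpecStalk (f x)) := Descend.flat_fromSpecStalk _
  haveI : Flat hC := inferInstanceAs (Flat (Spec.map ι ≫ Y.fromSpecStalk (f x)))
  let Z := pullback g hC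
  let s : Z ⟶ Spec C := pullback.snd g hC
  let J : Type u := {z : Z // s z = closedPoint C}
  let ρ : ∀ z : Z, C ⟶ Z.presheaf.stalk z := fun z =>
    (Scheme.ΓSpecIso C).inv ≫ s.appTop ≫ Z.presheaf.germ ⊤ z trivial
  have hρ : ∀ z : J, (maximalIdeal (Z.presheaf.stalk z.1)).comap (ρ z.1).hom = maximalIdeal C := by
    intro z
    have e : Spec.map (ρ z.1) (closedPoint (Z.presheaf.stalk z.1)) = closedPoint C := by
      rw [← fromSpecStalk_comp_toSpec s z.1, Scheme.Hom.comp_apply, Scheme.fromSpecStalk_closedPoint]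
      exact z.2
    exact congrArg PrimeSpectrum.asIdeal e
  let φ : ∀ z : J, A →+* Z.presheaf.stalk z.1 := fun z => (ι ≫ ρ z.1).hom
  haveI : ∀ z : J, IsLocalHom (φ z) := fun z => by
    refine ⟨fun a ha => ?_⟩
    by_contra hna
    have h1 : ι a ∈ maximalIdeal C := by
      have : a ∈ (maximalIdeal C).comap ι.hom := by
        rw [show ι.hom = algebraMap A (AdicCompletion (maximalIdeal A) A) from rfl]
        exact (IsLocalRing.maximalIdeal_comap (algebraMap A (AdicCompletion (maximalIdeal A) A))).ge hna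
      exact this
    rw [← hρ z] at h1
    exact h1 ha
  refine Groth.Agent.S4857.result f F hF x (fun z : J => (Z.presheaf.stalk z.1 : Type u)) φ ?_ ?_
  · -- the topology
    intro N
    let K : ℕ → Ideal C := fun n => ⨅ z : J, (maximalIdeal (Z.presheaf.stalk z.1) ^ n).comap (ρ z.1).hom
    have hKanti : Antitone K := fun a b hab => iInf_mono fun z => Ideal.comap_mono (Ideal.pow_le_pow_right hab)
    have hK0 : ⨅ n, K n = ⊥ := by
      rw [eq_bot_iff]
      intro c hc
      refine (Submodule.mem_bot C).2 (eq_zero_of_forall_mem_pow s c fun z hz n => ?_)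
      exact (Submodule.mem_iInf _).1 ((Submodule.mem_iInf _).1 hc n) ⟨z, hz⟩
    obtain ⟨n, hn⟩ := HLV27.exists_le_pow K hKanti hK0 N
    have hcomap : ∀ z : J, maximalIdeal C ^ n ≤ (maximalIdeal (Z.presheaf.stalk z.1) ^ n).comap (ρ z.1).hom :=
      fun z => by
        rw [← hρ z]
        exact Ideal.le_comap_pow (ρ z.1).hom n
    -- finitely many suffice
    let I : Finset J → Ideal C := fun t =>
      maximalIdeal C ^ 0 ⊓ ⨅ z ∈ t, (maximalIdeal (Z.presheaf.stalk z.1) ^ n).comap (ρ z.1).hom
    haveI : IsArtinianRing (C ⧸ maximalIdeal C ^ n) := FlatDvr5.isArtinianRing_quotient _ n le_rfl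
    obtain ⟨I', ⟨t, rfl⟩, hmin⟩ := (wellFounded_lt (α := Ideal (C ⧸ maximalIdeal C ^ n))).has_min
      (Set.range fun t => (I t).map (Ideal.Quotient.mk (maximalIdeal C ^ n))) (Set.range_nonempty _)
    have hI : ∀ t, maximalIdeal C ^ n ≤ I t := fun t =>
      le_inf (by rw [pow_zero, Ideal.one_eq_top]; exact le_top) (le_iInf₂ fun z _ => hcomap z)
    have hle : ∀ z : J, I t ≤ (maximalIdeal (Z.presheaf.stalk z.1) ^ n).comap (ρ z.1).hom := by
      intro z
      have h1 : I (insert z t) ≤ I t :=
        inf_le_inf le_rfl (le_iInf₂ fun w hw => iInf₂_le w (Finset.mem_insert_of_mem hw))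
      have h2 := (Ideal.map_mono (f := Ideal.Quotient.mk (maximalIdeal C ^ n)) h1).eq_of_not_lt
        (hmin _ ⟨_, rfl⟩)
      have h3 : I t ≤ I (insert z t) := by
        have h4 := congrArg (fun L => L.comap (Ideal.Quotient.mk (maximalIdeal C ^ n))) h2
        simp only [Ideal.comap_map_of_surjective' _ Ideal.Quotient.mk_surjective, Ideal.mk_ker,
          sup_eq_left.2 (hI _)] at h4
        exact h4.ge
      exact h3.trans (inf_le_right.trans (iInf₂_le z (Finset.mem_insert_self _ _)))
    refine ⟨t.image fun z => (z, n), fun a ha => ?_⟩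
    have ha' : ι a ∈ K n := by
      refine (Submodule.mem_iInf _).2 fun z => hle z ⟨by rw [pow_zero, Ideal.one_eq_top]; trivial, ?_⟩
      refine (Submodule.mem_iInf _).2 fun w => (Submodule.mem_iInf _).2 fun hw => ?_
      have := (Submodule.mem_iInf _).1 ((Submodule.mem_iInf _).1 ha (w, n)) (Finset.mem_image_of_mem _ hw)
      exact this
    have h5 : ι a ∈ maximalIdeal C ^ N := hn ha'
    have h6 : (maximalIdeal A ^ N).map ι.hom = maximalIdeal C ^ N := by
      rw [Ideal.map_pow]
      congr 1
      exact AdicCompletion.maximalIdeal_eq_map.symm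
    rw [← h6] at h5
    haveI : Module.FaithfullyFlat A (AdicCompletion (maximalIdeal A) A) :=
      Module.FaithfullyFlat.of_flat_of_isLocalHom
    have h7 : a ∈ ((maximalIdeal A ^ N).map (algebraMap A (AdicCompletion (maximalIdeal A) A))).comap
        (algebraMap A (AdicCompletion (maximalIdeal A) A)) := h5
    rwa [Ideal.comap_map_eq_self_of_faithfullyFlat] at h7
  · -- the flatness hypothesis
    intro z w hw _
    refine isFlatOverAt_pullback_of_eq f F g (Z.fromSpecStalk z.1 ≫ pullback.fst g hC) _ ?_ x hflat w hw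
    rw [Category.assoc, pullback.condition]
    show Z.fromSpecStalk z.1 ≫ s ≫ Spec.map ι ≫ Y.fromSpecStalk (f x) = _
    rw [← Category.assoc, fromSpecStalk_comp_toSpec, ← Category.assoc, ← Spec.map_comp]
    rfl

end Groth.Agent.FlatProper5
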