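import Groth.Agent.Lib.FlatProper5.Core
import Groth.Agent.Lib.Descend.FgModel
import Groth.Agent.Lib.FlatH4.FlatComp
import Groth.Agent.Lib.ModM1.Coh
import Groth.Agent.S4788
import Groth.Agent.S4863
import Groth.Agent.S4900
import Groth.Agent.S2074

/-!
# Descent of flatness along a proper morphism, by reduction to the Noetherian case
-/

set_option autoImplicit false
set_option backward.isDefEq.respectTransparency false
set_option backward.defeqAttrib.useBackward true
set_option linter.style.haveILetI false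
set_option maxHeartbeats 3200000

universe u

open CategoryTheory CategoryTheory.Limits AlgebraicGeometry Opposite

namespace Groth.Agent.FlatProper5

/-- A cartesian square of fibre products. -/
theorem pullback_square {X Y S X₀ Y₀ S₀ : Scheme.{u}} {f : X ⟶ S} {g : Y ⟶ S} {f₀ : X₀ ⟶ S₀} {g₀ : Y₀ ⟶ S₀}
    {qX : X ⟶ X₀} {qY : Y ⟶ Y₀} {q : S ⟶ S₀} (hX : IsPullback qX f f₀ q) (hY : IsPullback qY g g₀ q) :
    IsPullback (pullback.map f g f₀ g₀ qX qY q hX.w.symm hY.w.symm) (pullback.snd f g) (pullback.snd f₀ g₀) qY ∧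
    IsPullback (pullback.map f g f₀ g₀ qX qY q hX.w.symm hY.w.symm) (pullback.fst f g) (pullback.fst f₀ g₀) qX := by
  constructor
  · refine IsPullback.of_right ?_ (pullback.lift_snd _ _ _) (IsPullback.of_hasPullback f₀ g₀)
    have h := (IsPullback.of_hasPullback f g).paste_horiz hX
    rw [← hY.w] at h
    rwa [pullback.map, pullback.lift_fst]
  · refine IsPullback.of_right ?_ (pullback.lift_fst _ _ _) (IsPullback.of_hasPullback f₀ g₀).flip
    have h := (IsPullback.of_hasPullback f g).flip.paste_horiz hY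
    rw [← hX.w] at h
    rwa [pullback.map, pullback.lift_snd]

/-- Base change of a model to a finer stage. -/
theorem exists_stage_sq {X S S₀ X₀ T : Scheme.{u}} {f : X ⟶ S} {f₀ : X₀ ⟶ S₀} {q : X ⟶ X₀} {p : S ⟶ S₀}
    (h : IsPullback q f f₀ p) (a : T ⟶ S₀) (p' : S ⟶ T) (hp : p' ≫ a = p) :
    ∃ q' : X ⟶ pullback f₀ a, q' ≫ pullback.fst f₀ a = q ∧ IsPullback q' f (pullback.snd f₀ a) p' := by
  have w : q ≫ f₀ = (f ≫ p') ≫ a := by rw [Category.assoc, hp]; exact h.w
  refine ⟨pullback.lift q (f ≫ p') w, pullback.lift_fst _ _ _, ?_⟩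
  refine IsPullback.of_right ?_ (pullback.lift_snd _ _ _) (IsPullback.of_hasPullback f₀ a)
  rw [pullback.lift_fst, hp]
  exact h

/-- The projection of a fibre product to a finer stage. -/
theorem isPullback_closed {P X S S' : Scheme.{u}} (f : X ⟶ S) (j : S' ⟶ S) (g' : P ⟶ S') (g : P ⟶ S)
    (hg : g' ≫ j = g) :
    IsPullback (pullback.fst (pullback.snd f j) g' ≫ pullback.fst f j) (pullback.snd (pullback.snd f j) g') f g := by
  subst hg
  exact (IsPullback.of_hasPullback (pullback.snd f j) g').paste_horiz (IsPullback.of_hasPullback f j)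

/-- Descent of flatness along a proper morphism, affine base. -/
theorem isFlatOverAt_of_affine {R : Type u} [CommRing R] {X Y' : Scheme.{u}}
    (f : X ⟶ Spec (CommRingCat.of R)) [LocallyOfFinitePresentation f] [QuasiCompact f] [QuasiSeparated f]
    (F : X.Modules) [Coh.IsQCoh F] (hF : CohB1.IsFP F) (x : X)
    (g : Y' ⟶ Spec (CommRingCat.of R)) [IsProper g] [LocallyOfFinitePresentation g]
    (hinj : ∀ s : Γ(Spec (CommRingCat.of R), ⊤), g.appTop s = 0 →
      (Spec (CommRingCat.of R)).presheaf.germ ⊤ (f x) trivial s = 0)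
    (hflat : ∀ x' : ↥(pullback f g), pullback.fst f g x' = x →
      FlatMod.IsFlatOverAt (pullback.snd f g) ((Scheme.Modules.pullback (pullback.fst f g)).obj F) x') :
    FlatMod.IsFlatOverAt f F x := by
  classical
  let D := (Descend.fgRing R).op ⋙ Scheme.Spec
  let c : Cone D := Scheme.Spec.mapCone (Descend.fgCocone R).op
  have hc : IsLimit c := isLimitOfPreserves Scheme.Spec (Descend.isColimitFgCocone R).op
  haveI : ∀ i, IsAffine (D.obj i) := fun i => inferInstanceAs (IsAffine (Spec _))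
  haveI : ∀ {i j} (a : i ⟶ j), IsAffineHom (D.map a) := fun a => inferInstance
  haveI : IsCofiltered (Descend.FgIdx R)ᵒᵖ := by
    haveI : IsFiltered (Descend.FgIdx R) := isFiltered_of_directed_le_nonempty _
    infer_instance
  haveI : ∀ i, IsLocallyNoetherian (D.obj i) := fun i => by
    haveI : Algebra.FiniteType ℤ i.unop.1 := (Subalgebra.fg_iff_finiteType i.unop.1).1 i.unop.2
    haveI : IsNoetherianRing i.unop.1 := Algebra.FiniteType.isNoetherianRing ℤ i.unop.1
    exact inferInstanceAs (IsLocallyNoetherian (Spec (CommRingCat.of i.unop.1)))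
  -- the model of the module
  obtain ⟨i, Xi, fi, qi, hfi, hfiqc, hfiqs, hsqi⟩ := S0591.result D c hc X f
  let G := Over.forget i
  let t := Descend.overT D i
  have hc' : IsLimit (c.whisker G) := (Functor.Initial.isLimitWhiskerEquiv G c).symm hc
  have hq₀ : ∀ k, (c.whisker G).π.app k ≫ t.app k = c.π.app i := fun k => c.w k.hom
  let cX := Descend.pbCone (G ⋙ D) t fi (c.whisker G) hq₀ hsqi
  have hcX : IsLimit cX := Descend.pbIsLimit (G ⋙ D) t fi (c.whisker G) hq₀ hsqi hc'
  haveI : ∀ k, IsAffineHom (t.app k) := fun k => inferInstanceAs (IsAffineHom (D.map k.hom))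
  haveI : CompactSpace Xi := QuasiCompact.compactSpace_of_compactSpace fi
  haveI : QuasiSeparatedSpace Xi := quasiSeparatedSpace_of_quasiSeparated fi
  haveI : Coh.IsQCoh (X := cX.pt) F := ‹Coh.IsQCoh F›
  obtain ⟨k, -, F₁, hF₁, hF₁fp, ⟨eF⟩⟩ :=
    S4788.result (Descend.pbDiagram (G ⋙ D) t fi) cX hcX (Over.mk (𝟙 i)) (F : cX.pt.Modules) hF
  -- the model of the proper morphism
  obtain ⟨iY, Yi, gi, qYi, hgi, hgiqc, hgiqs, hsqY⟩ := S0591.result D c hc Y' g
  let k₀ := IsCofiltered.min k.left iY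
  let a := IsCofiltered.minToLeft k.left iY
  let b := IsCofiltered.minToRight k.left iY
  let f₁ : (Descend.pbDiagram (G ⋙ D) t fi).obj k ⟶ D.obj k.left := pullback.snd fi (t.app k)
  haveI : LocallyOfFinitePresentation f₁ := MorphismProperty.pullback_snd _ _ hfi
  haveI : QuasiCompact f₁ := MorphismProperty.pullback_snd _ _ hfiqc
  haveI : QuasiSeparated f₁ := MorphismProperty.pullback_snd _ _ hfiqs
  have hsq₁ : IsPullback (cX.π.app k) f f₁ (c.π.app k.left) :=
    Descend.pbCone_isPullback (G ⋙ D) t fi (c.whisker G) hq₀ hsqi k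
  obtain ⟨q₀, hq₀fst, hsq₀⟩ := exists_stage_sq hsq₁ (D.map a) (c.π.app k₀) (c.w a)
  obtain ⟨r₀, hr₀fst, hsqr₀⟩ := exists_stage_sq hsqY (D.map b) (c.π.app k₀) (c.w b)
  let g₀ := pullback.snd gi (D.map b)
  haveI : LocallyOfFinitePresentation g₀ := MorphismProperty.pullback_snd _ _ hgi
  haveI : QuasiCompact g₀ := MorphismProperty.pullback_snd _ _ hgiqc
  haveI : QuasiSeparated g₀ := MorphismProperty.pullback_snd _ _ hgiqs
  haveI : CompactSpace ↥(pullback gi (D.map b)) := QuasiCompact.compactSpace_of_compactSpace g₀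
  haveI : QuasiSeparatedSpace ↥(pullback gi (D.map b)) := quasiSeparatedSpace_of_quasiSeparated g₀
  -- properness at a stage
  obtain ⟨k₂, φ₂, Y₂, S₂, g₂, s₂, pS, pY₂, hS₂, hY₂, hprop⟩ :=
    S2074.result D c hc k₀ g₀ (𝟙 (D.obj k₀)) g (𝟙 c.pt) (c.π.app k₀) r₀ (IsPullback.of_id_snd) hsqr₀
  let gk := g₂ ≫ s₂
  have hgk : IsPullback pY₂ gk g₀ (D.map φ₂) := by
    have h := hY₂.paste_vert hS₂
    rwa [Category.comp_id] at h
  haveI : IsIso s₂ := hS₂.isIso_snd_of_isIso
  haveI : IsProper gk := inferInstanceAs (IsProper (g₂ ≫ s₂))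
  haveI : LocallyOfFinitePresentation gk := MorphismProperty.of_isPullback (P := @LocallyOfFinitePresentation) hgk inferInstance
  let rk : Y' ⟶ Y₂ := hgk.lift r₀ (g ≫ c.π.app k₂) (by rw [Category.assoc, c.w φ₂]; exact hsqr₀.w)
  have hrk : IsPullback rk g gk (c.π.app k₂) := by
    refine IsPullback.of_right ?_ (hgk.lift_snd _ _ _) hgk
    rw [hgk.lift_fst, c.w φ₂]
    exact hsqr₀
  obtain ⟨qk, hqkfst, hsqk⟩ := exists_stage_sq hsq₁ (D.map (φ₂ ≫ a)) (c.π.app k₂) (c.w _)
  let fk := pullback.snd f₁ (D.map (φ₂ ≫ a))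
  haveI : LocallyOfFinitePresentation fk := MorphismProperty.pullback_snd _ _ ‹LocallyOfFinitePresentation f₁›
  haveI : QuasiCompact fk := MorphismProperty.pullback_snd _ _ ‹QuasiCompact f₁›
  haveI : QuasiSeparated fk := MorphismProperty.pullback_snd _ _ ‹QuasiSeparated f₁›
  haveI := hF₁
  let Fk := (Scheme.Modules.pullback (pullback.fst f₁ (D.map (φ₂ ≫ a)))).obj F₁
  haveI hFkq : Coh.IsQCoh Fk := M1.isQCoh_pullback _ hF₁
  have hFk : CohB1.IsFP Fk := M1.isFP_pullback _ hF₁fp
  let eFk : (Scheme.Modules.pullback qk).obj Fk ≅ F :=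
    (Scheme.Modules.pullbackComp qk (pullback.fst f₁ (D.map (φ₂ ≫ a)))).app F₁ ≪≫
      (Scheme.Modules.pullbackCongr hqkfst).app F₁ ≪≫ eF
  -- the fibre product and its stages
  obtain ⟨hP, hPfst⟩ := pullback_square hsqk hrk
  let qP := pullback.map f g fk gk qk rk (c.π.app k₂) hsqk.w.symm hrk.w.symm
  let f₀ := pullback.snd fk gk
  let FP := (Scheme.Modules.pullback (pullback.fst fk gk)).obj Fk
  haveI : Coh.IsQCoh FP := M1.isQCoh_pullback _ hFkq
  have hFP : CohB1.IsFP FP := M1.isFP_pullback _ hFk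
  let eP : (Scheme.Modules.pullback qP).obj FP ≅ (Scheme.Modules.pullback (pullback.fst f g)).obj F :=
    (Scheme.Modules.pullbackComp qP (pullback.fst fk gk)).app Fk ≪≫
      (Scheme.Modules.pullbackCongr hPfst.w).app Fk ≪≫
      ((Scheme.Modules.pullbackComp (pullback.fst f g) qk).app Fk).symm ≪≫
      (Scheme.Modules.pullback (pullback.fst f g)).mapIso eFk
  haveI : LocallyOfFinitePresentation f₀ := MorphismProperty.pullback_snd _ _ ‹LocallyOfFinitePresentation fk›
  haveI : QuasiCompact f₀ := MorphismProperty.pullback_snd _ _ ‹QuasiCompact fk›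
  haveI : QuasiSeparated f₀ := MorphismProperty.pullback_snd _ _ ‹QuasiSeparated fk›
  haveI : LocallyOfFinitePresentation (f₀ ≫ gk) := inferInstance
  haveI : QuasiCompact (f₀ ≫ gk) := inferInstance
  haveI : QuasiSeparated (f₀ ≫ gk) := inferInstance
  let Zx : Set ↥(pullback f g) := pullback.fst f g ⁻¹' {x}
  have hstage : ∀ x' : Zx, ∃ (i : (Descend.FgIdx R)ᵒᵖ) (φ : i ⟶ k₂) (Xs Ys : Scheme.{u}) (fs : Xs ⟶ Ys)
      (gs : Ys ⟶ D.obj i) (pY : Ys ⟶ Y₂) (pX : Xs ⟶ pullback fk gk) (vY : Y' ⟶ Ys) (vX : pullback f g ⟶ Xs),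
        IsPullback pY gs gk (D.map φ) ∧ IsPullback pX fs f₀ pY ∧
          vY ≫ pY = rk ∧ vY ≫ gs = g ≫ c.π.app i ∧ vX ≫ pX = qP ∧ vX ≫ fs = pullback.snd f g ≫ vY ∧
          FlatMod.IsFlatOverAt fs ((Scheme.Modules.pullback pX).obj FP) (vX x'.1) := fun x' =>
    (Groth.Agent.S4900.result D c hc k₂ f₀ gk FP hFP (pullback.snd f g) g rk qP hrk hP x'.1).1
      (SchDom.isFlatOverAt_of_iso _ eP.symm _ (hflat x'.1 x'.2))
  choose is φs Xs Ys fs gs pY pX vY vX hsY hsX hvY hvYg hvX hvXf hflats using hstage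
  let U : Zx → Set ↥(pullback f g) := fun x' =>
    vX x' ⁻¹' {z | FlatMod.IsFlatOverAt (fs x') ((Scheme.Modules.pullback (pX x')).obj FP) z}
  have hU : ∀ x', IsOpen (U x') := fun x' => by
    haveI : LocallyOfFinitePresentation (fs x') :=
      MorphismProperty.of_isPullback (P := @LocallyOfFinitePresentation) (hsX x') inferInstance
    haveI := M1.isQCoh_pullback (pX x') (M := FP) inferInstance
    exact (Groth.Agent.S4863.result (fs x') _ (M1.isFP_pullback (pX x') hFP)).preimage (vX x').continuous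
  have hZ : IsCompact Zx := (pullback.fst f g).isCompact_preimage_singleton x
  obtain ⟨T, hT⟩ := hZ.elim_finite_subcover U hU fun z hz => Set.mem_iUnion.2 ⟨⟨z, hz⟩, hflats ⟨z, hz⟩⟩
  obtain ⟨l, bl, el, hel⟩ := IsCofiltered.wideCospan fun z : T => φs z.1
  -- the common stage
  obtain ⟨ql, hqlfst, hsql⟩ := exists_stage_sq hsqk (D.map bl) (c.π.app l) (c.w _)
  obtain ⟨rl, hrlfst, hsqrl⟩ := exists_stage_sq hrk (D.map bl) (c.π.app l) (c.w _)
  let fl := pullback.snd fk (D.map bl)
  let gl := pullback.snd gk (D.map bl)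
  haveI : LocallyOfFinitePresentation fl := MorphismProperty.pullback_snd _ _ ‹LocallyOfFinitePresentation fk›
  haveI : IsProper gl := MorphismProperty.pullback_snd (P := @IsProper) _ _ ‹IsProper gk›
  let Fl := (Scheme.Modules.pullback (pullback.fst fk (D.map bl))).obj Fk
  haveI hFlq : Coh.IsQCoh Fl := M1.isQCoh_pullback _ hFkq
  have hFl : CohB1.IsFP Fl := M1.isFP_pullback _ hFk
  obtain ⟨hPl, hPlfst⟩ := pullback_square (IsPullback.of_hasPullback fk (D.map bl)) (IsPullback.of_hasPullback gk (D.map bl))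
  obtain ⟨hvP, hvPfst⟩ := pullback_square hsql hsqrl
  let m₀ := pullback.map fl gl fk gk (pullback.fst fk (D.map bl)) (pullback.fst gk (D.map bl)) (D.map bl)
    (IsPullback.of_hasPullback fk (D.map bl)).w.symm (IsPullback.of_hasPullback gk (D.map bl)).w.symm
  let vP := pullback.map f g fl gl ql rl (c.π.app l) hsql.w.symm hsqrl.w.symm
  have hflatl : ∀ z : ↥(pullback fl gl), pullback.fst fl gl z = ql x →
      FlatMod.IsFlatOverAt (pullback.snd fl gl) ((Scheme.Modules.pullback (pullback.fst fl gl)).obj Fl) z := by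
    intro z hz
    obtain ⟨x', hx'z, hx'⟩ := Scheme.exists_preimage_of_isPullback hvPfst z x hz
    obtain ⟨w, hw, hwU⟩ := Set.mem_iUnion₂.1 (hT (show x' ∈ Zx from hx'))
    have hby : D.map (el ⟨w, hw⟩) ≫ D.map (φs w) = D.map bl := by rw [← D.map_comp, hel ⟨w, hw⟩]
    let mY : pullback gk (D.map bl) ⟶ Ys w := (hsY w).lift (pullback.fst _ _) (pullback.snd _ _ ≫ D.map (el ⟨w, hw⟩)) (by
      rw [Category.assoc, hby]; exact pullback.condition)
    have hmY : mY ≫ pY w = pullback.fst _ _ := (hsY w).lift_fst _ _ _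
    have hm0 : m₀ ≫ f₀ = (pullback.snd fl gl ≫ mY) ≫ pY w := by
      rw [Category.assoc, hmY]; exact pullback.lift_snd _ _ _
    let mX : pullback fl gl ⟶ Xs w := (hsX w).lift m₀ (pullback.snd fl gl ≫ mY) hm0
    have hmX : mX ≫ pX w = m₀ := (hsX w).lift_fst _ _ _
    have hsq : IsPullback mX (pullback.snd fl gl) (fs w) mY := by
      refine IsPullback.of_right ?_ ((hsX w).lift_snd _ _ _) (hsX w)
      rw [hmX, hmY]
      exact hPl
    have hvYw : vY w = rl ≫ mY := by
      apply (hsY w).hom_ext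
      · rw [hvY, Category.assoc, hmY, hrlfst]
      · rw [hvYg, Category.assoc, (hsY w).lift_snd, ← Category.assoc, hsqrl.w, Category.assoc, c.w]
    have hvXw : vX w = vP ≫ mX := by
      apply (hsX w).hom_ext
      · rw [hvX, Category.assoc, hmX]
        apply pullback.hom_ext
        · simp [vP, m₀, qP, pullback.map]
          exact congrArg (pullback.fst f g ≫ ·) hqlfst.symm
        · simp [vP, m₀, qP, pullback.map]
          exact congrArg (pullback.snd f g ≫ ·) hrlfst.symm
      · rw [hvXf, Category.assoc, (hsX w).lift_snd, hvYw, ← Category.assoc vP, pullback.lift_snd, Category.assoc]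
    have hwU' : FlatMod.IsFlatOverAt (fs w) ((Scheme.Modules.pullback (pX w)).obj FP) (mX z) := by
      have : vX w x' = mX z := by rw [hvXw, Scheme.Hom.comp_apply]; exact congrArg mX hx'z
      rw [← this]; exact hwU
    haveI := M1.isQCoh_pullback (pX w) (M := FP) inferInstance
    have h1 := FlatH4.isFlatOverAt_baseChange hsq _ z hwU'
    refine SchDom.isFlatOverAt_of_iso _ ?_ z h1
    exact (Scheme.Modules.pullbackComp mX (pX w)).app FP ≪≫
      (Scheme.Modules.pullbackCongr hmX).app FP ≪≫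
      (Scheme.Modules.pullbackComp m₀ (pullback.fst fk gk)).app Fk ≪≫
      (Scheme.Modules.pullbackCongr hPlfst.w).app Fk ≪≫
      ((Scheme.Modules.pullbackComp (pullback.fst fl gl) (pullback.fst fk (D.map bl))).app Fk).symm
  -- the scheme-theoretic image
  let B : CommRingCat.{u} := CommRingCat.of l.unop.1
  let ψ : B ⟶ Γ(pullback gk (D.map bl), ⊤) := (Scheme.ΓSpecIso B).inv ≫ gl.appTop
  let B₁ : CommRingCat.{u} := CommRingCat.of (B ⧸ RingHom.ker ψ.hom)
  let π : B ⟶ B₁ := CommRingCat.ofHom (Ideal.Quotient.mk _)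
  let j : Spec B₁ ⟶ D.obj l := Spec.map π
  haveI : IsClosedImmersion j := IsClosedImmersion.spec_of_surjective π Ideal.Quotient.mk_surjective
  let ψ₁ : B₁ ⟶ Γ(pullback gk (D.map bl), ⊤) := CommRingCat.ofHom (RingHom.kerLift ψ.hom)
  let g₁ : pullback gk (D.map bl) ⟶ Spec B₁ := Scheme.toSpecΓ _ ≫ Spec.map ψ₁
  have hg₁ : g₁ ≫ j = gl := by
    show (_ ≫ Spec.map ψ₁) ≫ Spec.map π = gl
    rw [Category.assoc, ← Spec.map_comp, show π ≫ ψ₁ = ψ from CommRingCat.hom_ext (RingHom.ext fun r => rfl),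
      Spec.map_comp, ← Scheme.toSpecΓ_naturality_assoc]
    exact (congrArg (gl ≫ ·) (toSpecΓ_SpecMap_ΓSpecIso_inv B)).trans (Category.comp_id _)
  haveI : IsProper (g₁ ≫ j) := by rw [hg₁]; infer_instance
  haveI : IsProper g₁ := IsProper.of_comp g₁ j
  haveI : IsSchemeTheoreticallyDominant g₁ := by
    rw [isSchemeTheoreticallyDominant_iff]
    refine Scheme.IdealSheafData.ext_of_isAffine ?_
    rw [Scheme.Hom.ker_apply, Scheme.IdealSheafData.ideal_bot, Pi.bot_apply, ← RingHom.injective_iff_ker_eq_bot]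
    show Function.Injective g₁.appTop
    have e : (Scheme.ΓSpecIso B₁).inv ≫ g₁.appTop = ψ₁ := by
      simp [g₁, Scheme.toSpecΓ_appTop]
    intro u v huv
    obtain ⟨u, rfl⟩ := (ConcreteCategory.bijective_of_isIso (Scheme.ΓSpecIso B₁).inv).2 u
    obtain ⟨v, rfl⟩ := (ConcreteCategory.bijective_of_isIso (Scheme.ΓSpecIso B₁).inv).2 v
    have h2 : ψ₁ u = ψ₁ v := by rw [← e]; exact huv
    rw [RingHom.kerLift_injective ψ.hom h2]
  haveI : IsNoetherianRing B₁ := by
    haveI : Algebra.FiniteType ℤ l.unop.1 := (Subalgebra.fg_iff_finiteType l.unop.1).1 l.unop.2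
    haveI : IsNoetherianRing l.unop.1 := Algebra.FiniteType.isNoetherianRing ℤ l.unop.1
    exact inferInstanceAs (IsNoetherianRing (l.unop.1 ⧸ RingHom.ker ψ.hom))
  -- the map from the local ring
  let y := f x
  let O := (Spec (CommRingCat.of R)).presheaf.stalk y
  let ρ : B ⟶ O := CommRingCat.ofHom (algebraMap l.unop.1 R) ≫ (Scheme.ΓSpecIso (CommRingCat.of R)).inv ≫
    (Spec (CommRingCat.of R)).presheaf.germ ⊤ y trivial
  have hρ : ∀ r ∈ RingHom.ker ψ.hom, ρ.hom r = 0 := by
    intro r hr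
    have h1 : ((Scheme.ΓSpecIso B).inv ≫ (c.π.app l).appTop) r =
        (CommRingCat.ofHom (algebraMap l.unop.1 R) ≫ (Scheme.ΓSpecIso (CommRingCat.of R)).inv) r :=
      congrArg (fun φ => φ r) (Scheme.ΓSpecIso_inv_naturality (CommRingCat.ofHom (algebraMap l.unop.1 R))).symm
    show (Spec (CommRingCat.of R)).presheaf.germ ⊤ y trivial
      ((CommRingCat.ofHom (algebraMap l.unop.1 R) ≫ (Scheme.ΓSpecIso (CommRingCat.of R)).inv) r) = 0
    refine hinj _ ?_
    rw [← h1]
    show ((c.π.app l).appTop ≫ g.appTop) ((Scheme.ΓSpecIso B).inv r) = 0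
    rw [← Scheme.Hom.comp_appTop, ← hsqrl.w, Scheme.Hom.comp_appTop]
    show rl.appTop (ψ.hom r) = 0
    rw [RingHom.mem_ker.1 hr, map_zero]
  let ρ₁ : B₁ ⟶ O := CommRingCat.ofHom (Ideal.Quotient.lift _ ρ.hom hρ)
  let τ : Spec O ⟶ Spec B₁ := Spec.map ρ₁
  have hτ : τ ≫ j = (Spec (CommRingCat.of R)).fromSpecStalk y ≫ c.π.app l := by
    show Spec.map ρ₁ ≫ Spec.map π = _
    rw [← Spec.map_comp, show π ≫ ρ₁ = ρ from CommRingCat.hom_ext (RingHom.ext fun r => rfl)]
    show Spec.map (CommRingCat.ofHom (algebraMap l.unop.1 R) ≫ _ ≫ _) =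
      _ ≫ Spec.map (CommRingCat.ofHom (algebraMap l.unop.1 R))
    rw [Spec.map_comp, Spec.map_comp, Category.assoc, ← Scheme.fromSpecStalk_toSpecΓ, Category.assoc,
      toSpecΓ_SpecMap_ΓSpecIso_inv_assoc]
  -- conclude
  let f₁' := pullback.snd fl j
  let F' := (Scheme.Modules.pullback (pullback.fst fl j)).obj Fl
  haveI : Coh.IsQCoh F' := M1.isQCoh_pullback _ hFlq
  haveI : LocallyOfFinitePresentation f₁' := MorphismProperty.pullback_snd _ _ ‹LocallyOfFinitePresentation fl›
  haveI : IsLocallyNoetherian (pullback fl j) := LocallyOfFiniteType.isLocallyNoetherian f₁'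
  let fS := (Spec (CommRingCat.of R)).fromSpecStalk y
  obtain ⟨xT, hxT1, hxT2⟩ := Scheme.Pullback.exists_preimage_pullback (f := f) (g := fS) x (IsLocalRing.closedPoint O)
    Scheme.fromSpecStalk_closedPoint.symm
  have wqT : (pullback.fst f fS ≫ ql) ≫ fl = (pullback.snd f fS ≫ τ) ≫ j := by
    rw [Category.assoc, hsql.w, ← Category.assoc, pullback.condition, Category.assoc, Category.assoc, hτ]
  let qT : pullback f fS ⟶ pullback fl j := pullback.lift (pullback.fst f fS ≫ ql) (pullback.snd f fS ≫ τ) wqT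
  have hsqT : IsPullback qT (pullback.snd f fS) f₁' τ := by
    refine IsPullback.of_right ?_ (pullback.lift_snd _ _ _) (IsPullback.of_hasPullback fl j)
    rw [pullback.lift_fst, hτ]
    exact (IsPullback.of_hasPullback f fS).paste_horiz hsql
  have hsqI := isPullback_closed fl j g₁ gl hg₁
  let mI : pullback f₁' g₁ ⟶ pullback fl gl := hsqI.isoPullback.hom
  have hmI1 : mI ≫ pullback.fst fl gl = pullback.fst f₁' g₁ ≫ pullback.fst fl j := hsqI.isoPullback_hom_fst
  have hmI2 : mI ≫ pullback.snd fl gl = pullback.snd f₁' g₁ := hsqI.isoPullback_hom_snd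
  have hcore : FlatMod.IsFlatOverAt f₁' F' (qT xT) := by
    refine isFlatOverAt_of_noetherian f₁' F' ((M1.isCoh_iff_isFP F').2 (M1.isFP_pullback _ hFl)) _ g₁ ?_
    intro w hw
    have hsqid : IsPullback mI (pullback.snd f₁' g₁) (pullback.snd fl gl) (𝟙 _) :=
      IsPullback.of_horiz_isIso ⟨by rw [hmI2, Category.comp_id]⟩
    haveI := M1.isQCoh_pullback (pullback.fst fl gl) (M := Fl) inferInstance
    have hz : pullback.fst fl gl (mI w) = ql x := by
      rw [← Scheme.Hom.comp_apply, hmI1, Scheme.Hom.comp_apply, hw, ← Scheme.Hom.comp_apply, pullback.lift_fst,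
        Scheme.Hom.comp_apply, hxT1]
      rfl
    have h1 := FlatH4.isFlatOverAt_baseChange hsqid _ w (hflatl (mI w) hz)
    refine SchDom.isFlatOverAt_of_iso _ ?_ w h1
    exact (Scheme.Modules.pullbackComp mI (pullback.fst fl gl)).app Fl ≪≫
      (Scheme.Modules.pullbackCongr hmI1).app Fl ≪≫
      ((Scheme.Modules.pullbackComp (pullback.fst f₁' g₁) (pullback.fst fl j)).app Fl).symm
  have h2 := FlatH4.isFlatOverAt_baseChange hsqT F' xT hcore
  let eT : (Scheme.Modules.pullback qT).obj F' ≅ (Scheme.Modules.pullback (pullback.fst f fS)).obj F :=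
    (Scheme.Modules.pullbackComp qT (pullback.fst fl j)).app Fl ≪≫
      (Scheme.Modules.pullbackCongr (pullback.lift_fst _ _ _)).app Fl ≪≫
      (Scheme.Modules.pullbackComp _ (pullback.fst fk (D.map bl))).app Fk ≪≫
      (Scheme.Modules.pullbackCongr ((Category.assoc _ _ _).trans (congrArg (pullback.fst f fS ≫ ·) hqlfst))).app Fk ≪≫
      ((Scheme.Modules.pullbackComp (pullback.fst f fS) qk).app Fk).symm ≪≫
      (Scheme.Modules.pullback (pullback.fst f fS)).mapIso eFk
  haveI : Flat fS := Descend.flat_fromSpecStalk _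
  have h3 := FlatH4.isFlatOverAt_of_baseChange_of_flat (IsPullback.of_hasPullback f fS) F xT
    (Flat.stalkMap fS _) (SchDom.isFlatOverAt_of_iso _ eT xT h2)
  rwa [hxT1] at h3

end Groth.Agent.FlatProper5
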